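import Cfsg.Agent.Lib.TC.Data.HeS0.Arr
import Cfsg.Agent.Lib.TC.Data.HeS0.K0
import Cfsg.Agent.Lib.TC.Data.HeS0.K1
import Cfsg.Agent.Lib.TC.Data.HeS0.K2
import Cfsg.Agent.Lib.TC.Data.HeS0.K3
import Cfsg.Agent.Lib.TC.Data.HeS0.K4
import Cfsg.Agent.Lib.TC.Data.HeS0.K5
import Cfsg.Agent.Lib.TC.Data.HeS0.K6
import Cfsg.Agent.Lib.TC.Data.HeS0.K7
import Cfsg.Agent.Lib.TC.Data.HeS0.K8
import Cfsg.Agent.Lib.TC.Data.HeS0.K9
import Cfsg.Agent.Lib.TC.Data.HeS0.K10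
import Cfsg.Agent.Lib.TC.Data.HeS0.K11
import Cfsg.Agent.Lib.TC.Data.HeS0.K12
import Cfsg.Agent.Lib.TC.Data.HeS0.K13
import Cfsg.Agent.Lib.TC.Data.HeS0.K14
import Cfsg.Agent.Lib.TC.Data.HeS0.P0
import Cfsg.Agent.Lib.TC.Data.HeS0.P1
import Cfsg.Agent.Lib.TC.Data.HeS0.P2
import Cfsg.Agent.Lib.TC.Data.HeS0.P3
import Cfsg.Agent.Lib.TC.Data.HeS0.P4
import Cfsg.Agent.Lib.TC.Data.HeS0.P5
import Cfsg.Agent.Lib.TC.Data.HeS0.P6

set_option autoImplicit false

namespace Cfsg.Agent.Lib.TC.Data.HeS0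

open Cfsg.Agent.Lib.TC

theorem doneK : Done Fk 403712 := by
  have h0 := Done.zero Fk
  have h1 : Done Fk 26915 := Done.step h0 K0_ok rfl
  have h2 : Done Fk 53830 := Done.step h1 K1_ok rfl
  have h3 : Done Fk 80745 := Done.step h2 K2_ok rfl
  have h4 : Done Fk 107660 := Done.step h3 K3_ok rfl
  have h5 : Done Fk 134575 := Done.step h4 K4_ok rfl
  have h6 : Done Fk 161490 := Done.step h5 K5_ok rfl
  have h7 : Done Fk 188405 := Done.step h6 K6_ok rfl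
  have h8 : Done Fk 215320 := Done.step h7 K7_ok rfl
  have h9 : Done Fk 242235 := Done.step h8 K8_ok rfl
  have h10 : Done Fk 269150 := Done.step h9 K9_ok rfl
  have h11 : Done Fk 296065 := Done.step h10 K10_ok rfl
  have h12 : Done Fk 322980 := Done.step h11 K11_ok rfl
  have h13 : Done Fk 349895 := Done.step h12 K12_ok rfl
  have h14 : Done Fk 376810 := Done.step h13 K13_ok rfl
  have h15 : Done Fk 403712 := Done.step h14 K14_ok rfl
  exact h15

theorem doneP : Done Fp 49980 := by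
  have h0 := Done.zero Fp
  have h1 : Done Fp 7140 := Done.step h0 P0_ok rfl
  have h2 : Done Fp 14280 := Done.step h1 P1_ok rfl
  have h3 : Done Fp 21420 := Done.step h2 P2_ok rfl
  have h4 : Done Fp 28560 := Done.step h3 P3_ok rfl
  have h5 : Done Fp 35700 := Done.step h4 P4_ok rfl
  have h6 : Done Fp 42840 := Done.step h5 P5_ok rfl
  have h7 : Done Fp 49980 := Done.step h6 P6_ok rfl
  exact h7

noncomputable def invp (j : ℕ) : ℕ := List.getD [0,1,2,3,4,5,6] j 0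

theorem hsig : ∀ j, j < ([0,1,2,3,4,5,6] : List ℕ).length → ([0,1,2,3,4,5,6] : List ℕ).getD j 0 < G.He.sys.ng ∧ invp j < ([0,1,2,3,4,5,6] : List ℕ).length ∧ ([0,1,2,3,4,5,6] : List ℕ).getD (invp j) 0 = G.He.sys.inv (([0,1,2,3,4,5,6] : List ℕ).getD j 0) := by decide +kernel

theorem hlett : ∀ w ∈ words, ∀ g ∈ w, g < 8 := by decide +kernel

theorem hlet2 : ∀ w ∈ words, ∀ g ∈ w, g < ([0,1,2,3,4,5,6] : List ℕ).length := by decide +kernel

theorem hrelW : ∀ w ∈ words.take 32, isPseudo ([0,1,2,3,4,5,6] : List ℕ).length invp w = true ∨ (w.map fun j => ([0,1,2,3,4,5,6] : List ℕ).getD j 0) ∈ G.He.relWords := by decide +kernel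

theorem hsubW : ∀ w ∈ words.drop 32, ∃ g ∈ ([0,2,3,4,5,6] : List ℕ), (w.map fun j => ([0,1,2,3,4,5,6] : List ℕ).getD j 0) = [g] := by decide +kernel

theorem hnm0 : aN 0 = 0 := by decide +kernel

theorem hnrel : cert.nrel ≤ cert.nW := by decide +kernel

theorem hnW : cert.nW = words.length := by decide +kernel

theorem idx : (G.He.sys.letL [0,2,3,4,5,6]).relIndex (G.He.sys.letL [0,1,2,3,4,5,6]) ≠ 0 ∧ (G.He.sys.letL [0,2,3,4,5,6]).relIndex (G.He.sys.letL [0,1,2,3,4,5,6]) ≤ 49980 :=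
  G.He.sys.relIndex_letL [0,1,2,3,4,5,6] [0,2,3,4,5,6] invp hsig cert words rfl rfl rfl hnW hnrel hlett hlet2 (fun w hw => (hrelW w hw).imp id G.He.of_mem_relWords) hsubW
    (fun k hk => guard_zero 403712 _ k hk) doneK 49980 aN tT (by decide) hnm0 doneP

end Cfsg.Agent.Lib.TC.Data.HeS0
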